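/-!
# An involution of the Higman–Sims group: the data
-/

set_option autoImplicit false

namespace Cfsg.Agent.Lib.Conway.HSU

/-- The matrix of an involution. -/
def SI : List (List (Nat × Int)) := [[(0, 6), (2, 2), (4, 2), (7, 2), (17, 2), (18, 2), (20, 2), (23, -2)], [(1, 2), (3, -2), (5, -2), (6, 2), (8, -2), (9, 2), (10, 2), (11, -2), (12, 2), (13, 2), (14, 2), (15, 2), (16, -2), (19, 2), (21, 2), (22, -2)], [(0, 2), (2, -2), (4, -2), (7, -2), (17, 6), (18, -2), (20, -2), (23, 2)], [(1, -2), (3, 2), (5, 2), (6, 2), (8, -2), (9, -2), (10, 2), (11, 2), (12, 2), (13, 2), (14, -2), (15, 2), (16, 2), (19, -2), (21, 2), (22, -2)], [(0, 2), (2, -2), (4, -2), (7, 6), (17, -2), (18, -2), (20, -2), (23, 2)], [(1, -2), (3, 2), (5, 2), (6, -2), (8, 2), (9, 2), (10, 2), (11, -2), (12, 2), (13, 2), (14, -2), (15, -2), (16, -2), (19, 2), (21, 2), (22, 2)], [(1, 2), (3, 2), (5, -2), (6, 2), (8, 2), (9, 2), (10, -2), (11,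 2), (12, 2), (13, -2), (14, -2), (15, -2), (16, 2), (19, 2), (21, 2), (22, -2)], [(0, 2), (2, -2), (4, 6), (7, -2), (17, -2), (18, -2), (20, -2), (23, 2)], [(1, -2), (3, -2), (5, 2), (6, 2), (8, 2), (9, 2), (10, 2), (11, 2), (12, -2), (13, 2), (14, 2), (15, -2), (16, 2), (19, 2), (21, -2), (22, -2)], [(1, 2), (3, -2), (5, 2), (6, 2), (8, 2), (9, -2), (10, -2), (11, -2), (12, -2), (13, 2), (14, -2), (15, 2), (16, 2), (19, 2), (21, 2), (22, 2)], [(1, 2), (3, 2), (5, 2), (6, -2), (8, 2), (9, -2), (10, -2), (11, 2), (12, 2), (13, 2), (14, 2), (15, 2), (16, -2), (19, 2), (21, -2), (22, -2)], [(1, -2), (3, 2), (5, -2), (6, 2), (8, 2), (9, -2), (10, 2), (11, -2), (12, 2), (13, -2), (14, 2), (15, 2), (16, 2), (19, 2), (21, -2), (22, 2)], [(1, 2), (3, 2), (5, 2), (6, 2), (8, -2), (9, -2), (10, 2), (11, 2), (12, -2), (13, -2), (14, 2), (15, -2), (16, -2), (19, 2), (21, 2), (22, 2)], [(1, 2), (3, 2), (5, 2), (6, -2), (8,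 2), (9, 2), (10, 2), (11, -2), (12, -2), (13, -2), (14, 2), (15, 2), (16, 2), (19, -2), (21, 2), (22, -2)], [(1, 2), (3, -2), (5, -2), (6, -2), (8, 2), (9, -2), (10, 2), (11, 2), (12, 2), (13, 2), (14, 2), (15, -2), (16, 2), (19, -2), (21, 2), (22, 2)], [(1, 2), (3, 2), (5, -2), (6, -2), (8, -2), (9, 2), (10, 2), (11, 2), (12, -2), (13, 2), (14, -2), (15, 2), (16, 2), (19, 2), (21, -2), (22, 2)], [(1, -2), (3, 2), (5, -2), (6, 2), (8, 2), (9, 2), (10, -2), (11, 2), (12, -2), (13, 2), (14, 2), (15, 2), (16, -2), (19, -2), (21, 2), (22, 2)], [(0, 2), (2, 6), (4, -2), (7, -2), (17, -2), (18, -2), (20, -2), (23, 2)], [(0, 2), (2, -2), (4, -2), (7, -2), (17, -2), (18, -2), (20, 6), (23, 2)], [(1, 2), (3, -2), (5, 2), (6, 2), (8, 2), (9, 2), (10, 2), (11, 2), (12, 2), (13, -2), (14, -2), (15, 2), (16, -2), (19, -2), (21, -2), (22, 2)], [(0, 2), (2, -2), (4, -2), (7, -2), (17, -2), (18, 6), (20, -2), (23, 2)], [(1,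 2), (3, 2), (5, 2), (6, 2), (8, -2), (9, 2), (10, -2), (11, -2), (12, 2), (13, 2), (14, 2), (15, -2), (16, 2), (19, -2), (21, -2), (22, 2)], [(1, -2), (3, -2), (5, 2), (6, -2), (8, -2), (9, 2), (10, -2), (11, 2), (12, 2), (13, -2), (14, 2), (15, 2), (16, 2), (19, 2), (21, 2), (22, 2)], [(0, -2), (2, 2), (4, 2), (7, 2), (17, 2), (18, 2), (20, 2), (23, 6)]]

/-- The action of the involution on the table. -/
def tI : Nat := 0x755a736183aacd8abdb93138aeae570ca908386e254e901813cd6db3a47e78716851a84d8dc39b38233188c1a32b550b06a620cbc96ee64a7a69f1b851c88a408948d00b6885b03ced02578c5f7e72baa80b0a029212417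

end Cfsg.Agent.Lib.Conway.HSU
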